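import Mathlib
import Cfsg.Agent.Spor.F24.S3B

/-! Generated by tools/fl: an element of order 13 of G2(3) -/

set_option autoImplicit false
set_option maxRecDepth 100000
set_option linter.unusedVariables false
set_option exponentiation.threshold 100000
set_option Elab.async false

namespace Cfsg.Agent.Spor.F24

open Cfsg.Agent.Spor Cfsg.Agent.Spor.FL

noncomputable def w3_t : ℕ → Bool := fun p => band (fixT (wT X wA_f) (nat_lit 1) p) (Nat.beq (X (nat_lit 1307) p) p)

noncomputable def w3_P : ℕ → ℕ := fun i => Nat.land (Nat.shiftRight (nat_lit 0xe180e17fe17de167e165e154e153b25eb259b230b22fb229b228b211b210ac458c048c038bf28bf18bb78bae8bad8ba08b8a8b898b888b856d656d646d636d626d4c6d3d6d3c6d3b6d376cfc6cf66cf56ce56cd46cd36cd26cd06ccc559d557a557955785577557655635562555a554455435542553e5502550154fb54fa54ea54db54da54d954d854d554d142b742914290428f428e428d428c428b428a427842764269425a424e424d424c424b4247420f420e420d420a420941f941ee41ed41ec41e941e233dc33db33da33b2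33b133af33ad33ac33aa33a733a6339433933390337f337e336f335f335e335d335c335b3357331d331c331b3319331532fa32f932f72806280528042803280227d727d627d327d227cf27ce27cb27c527c427c327b227b027ac2798279627892788277727752774277127322731272f271227101e951e941e931e921e911e901e8e1e5d1e5c1e5b1e571e551e501e421e3f1e301e2f1e141e131e051df11df01ded1dab1da91d8f1705170417031701170016fe16c616c316bf16be16a816a716961678167716671652165016181122111f111e111c111910dd10dc10d410c010bf10af109a1098107a0f3b0f320f190ca80ca50ca00c700c6f0c650c540c520c350be90b8a0b810b680b3c0b360b210955095109240922090908ee08b808af0885087f086a083f083506e606e406da06bc06a206780672065d063e06340613051b051a05180513050a04f504cb04ba04b00493047903c103b603ae0390037f036f0356034602b302ad0295028502770267025c01f001ea01e701d501c701bb01b0016801650162015d01570154014f014e01420136012c00f800f500f400f100f000ed00ea00e500e400dd00d600cc00a900a800a500a400a300a2009f009e009b009a009300890070006f006c006b006a006900660062004b004a004900460045004400320031002d0022002100170010)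 (Nat.mul (nat_lit 16) i)) (nat_lit 65535)

theorem w3_n : CntLe (fun i => force (wA_P i) fun p => Nat.beq (X (nat_lit 1307) p) p) 3240 352 := cntLe_of (a := (nat_lit 3240)) (c := (nat_lit 352)) (by decide +kernel)

theorem w3_p : ∀ i < 352, (fun i => band (incOK w3_P (nat_lit 352) (nat_lit 306936) i) (force (w3_P i) w3_t)) i = true := allRange_zero (len := (nat_lit 352)) (by decide +kernel)

theorem w3_W : Win 306936 w3_t 352 w3_P := wA_W.sub w3_n w3_p

theorem w3_inv {G : Type*} [Group G] (M : Mod G) : Inv (pts M.x) 306936 (cen (M.wl s3_h) 3) w3_t := M.inv_three wA_hf (by decide +kernel)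

noncomputable def c13_f : LT :=
(.node (.node (.node (.leaf [nat_lit 0])
 (.leaf [nat_lit 306937,nat_lit 306940,nat_lit 306938,nat_lit 306936,nat_lit 3237,nat_lit 306940,nat_lit 306942,nat_lit 3237,nat_lit 306936,nat_lit 306939,nat_lit 306937,nat_lit 3237,nat_lit 306939,nat_lit 306936,nat_lit 306938,nat_lit 306941,nat_lit 306938,nat_lit 306936,nat_lit 306939,nat_lit 3237,nat_lit 306939,nat_lit 306936,nat_lit 306938,nat_lit 306941]))
 (.node (.leaf [nat_lit 1307])
 (.leaf [nat_lit 68])))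
 (.node (.node (.leaf [nat_lit 3])
 (.leaf [nat_lit 306941,nat_lit 306938,nat_lit 306936,nat_lit 306939,nat_lit 3237,nat_lit 306939,nat_lit 306936,nat_lit 306938,nat_lit 306941,nat_lit 306938,nat_lit 306936,nat_lit 306939,nat_lit 3237,nat_lit 306937,nat_lit 306939,nat_lit 306936,nat_lit 3237,nat_lit 306942,nat_lit 306940,nat_lit 3237,nat_lit 306936,nat_lit 306938,nat_lit 306940,nat_lit 306937]))
 (.leaf [nat_lit 263774])))

noncomputable def c13_l : LT :=
(.leaf [nat_lit 306942,nat_lit 306936,nat_lit 2954,nat_lit 306942,nat_lit 306936,nat_lit 300,nat_lit 306940,nat_lit 306939,nat_lit 306942,nat_lit 306936,nat_lit 306939,nat_lit 13276,nat_lit 306937,nat_lit 306936,nat_lit 306941,nat_lit 306945])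

theorem c13_hf : c13_f.all (lettersLt 306952) = true := by decide +kernel

theorem c13_hl : c13_l.all (lettersLt 306952) = true := by decide +kernel

theorem c13_low : allLt (nat_lit 1) (fun y => allLt (nat_lit 6) fun s => commW X (nat_lit 306952) B (c13_l.get y) (c13_f.get s)) = true := by decide +kernel

theorem c13_bot : band (lettersLt (nat_lit 306952) []) (TM.all2 (TM.botOK X (nat_lit 306936) (nat_lit 306952) B c13_f (nat_lit 7) []) [nat_lit 0,nat_lit 3,nat_lit 1307,nat_lit 16,nat_lit 34,nat_lit 75,nat_lit 169,nat_lit 165,nat_lit 357,nat_lit 360,nat_lit 3237,nat_lit 706,nat_lit 263774] [[nat_lit 0,nat_lit 0],[nat_lit 1,nat_lit 3],[nat_lit 2,nat_lit 1307],[nat_lit 3,nat_lit 263774,nat_lit 6,nat_lit 5,nat_lit 3,nat_lit 6,nat_lit 5,nat_lit 5,nat_lit 5,nat_lit 6,nat_lit 4,nat_lit 6],[nat_lit 3,nat_lit 263774,nat_lit 3,nat_lit 6,nat_lit 4,nat_lit 4,nat_lit 4,nat_lit 6,nat_lit 4,nat_lit 4,nat_lit 6],[nat_lit 6,nat_lit 68,nat_lit 4,nat_lit 6,nat_lit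 4,nat_lit 6,nat_lit 4,nat_lit 4,nat_lit 4,nat_lit 4,nat_lit 4,nat_lit 4],[nat_lit 3,nat_lit 263774,nat_lit 4,nat_lit 4,nat_lit 3,nat_lit 6,nat_lit 4,nat_lit 6,nat_lit 4,nat_lit 4,nat_lit 6],[nat_lit 6,nat_lit 68,nat_lit 6,nat_lit 4,nat_lit 4,nat_lit 6,nat_lit 4,nat_lit 4,nat_lit 6,nat_lit 4,nat_lit 6,nat_lit 4],[nat_lit 6,nat_lit 68,nat_lit 5,nat_lit 5,nat_lit 5,nat_lit 5,nat_lit 6,nat_lit 5,nat_lit 6,nat_lit 5],[nat_lit 6,nat_lit 68,nat_lit 6,nat_lit 4,nat_lit 6,nat_lit 4],[nat_lit 3,nat_lit 263774,nat_lit 5,nat_lit 5,nat_lit 3,nat_lit 6,nat_lit 5,nat_lit 5,nat_lit 6,nat_lit 5,nat_lit 5,nat_lit 5,nat_lit 6],[nat_lit 2,nat_lit 1307,nat_lit 3,nat_lit 6,nat_lit 4,nat_lit 4,nat_lit 6,nat_lit 4,nat_lit 6,nat_lit 4,nat_lit 4,nat_lit 6,nat_lit 3],[nat_lit 3,nat_lit 263774]]) = true := by decide +kernel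

theorem c13_c1 {G : Type*} [Group G] (M : Mod G) (hM : TT.G24 M.D) (low : genLt (M.wl c13_l) 0 ≤ cen (M.wl c13_f) 7) : TM.CL (M.wl c13_f) 7 (M.wl c13_l) 0 1 :=
  M.cl_bot c13_hf (base3 M hM) c13_bot _

noncomputable def c13_0O : ℕ → ℕ := fun i => Nat.land (Nat.shiftRight (nat_lit 0xb2286cf55577554454d527881df117010c6f04f500f400930044) (Nat.mul (nat_lit 16) i)) (nat_lit 65535)

noncomputable def c13_0E : ℕ → ℕ := fun i => Nat.land (Nat.shiftRight (nat_lit 0x4050030c0070a0050800c060090900001008070010400a0b00602002030000000) (Nat.mul (nat_lit 20) i)) (nat_lit 0xfffff)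

noncomputable def c13_0_ts : List (List ℕ) := [[nat_lit 1,nat_lit 5,nat_lit 5,nat_lit 255,nat_lit 4,nat_lit 4],[nat_lit 1,nat_lit 5,nat_lit 5,nat_lit 5,nat_lit 255,nat_lit 4,nat_lit 4,nat_lit 4],[nat_lit 0,nat_lit 5,nat_lit 255,nat_lit 4],[nat_lit 0,nat_lit 4,nat_lit 255,nat_lit 1,nat_lit 4,nat_lit 0,nat_lit 3,nat_lit 255,nat_lit 4,nat_lit 2,nat_lit 255,nat_lit 3,nat_lit 255,nat_lit 2,nat_lit 5,nat_lit 255,nat_lit 3,nat_lit 0,nat_lit 5,nat_lit 1,nat_lit 255,nat_lit 5]]

theorem c13_0_s : TM.stepOK X (nat_lit 306936) (nat_lit 306952) B c13_f c13_l (nat_lit 6) (nat_lit 1) (nat_lit 0) (nat_lit 13) (nat_lit 13) (nat_lit 68) w3_t c13_0_ts = true := by decide +kernel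

theorem c13_0_o : ∀ i < 13, (fun i => band (incOK c13_0O (nat_lit 13) (nat_lit 306936) i) (orbL (wT X c13_l) (nat_lit 1) c13_0O c13_0E (nat_lit 13) (Nat.beq (nat_lit 68)) i)) i = true := allRange_zero (len := (nat_lit 13)) (by decide +kernel)

theorem c13_0_n : CntLe (fun i => force (w3_P i) (tsts (wT X c13_f) X c13_0_ts)) 352 13 := cntLe_of (a := (nat_lit 352)) (c := (nat_lit 13)) (by decide +kernel)

theorem c13_c0 {G : Type*} [Group G] (M : Mod G) (hM : TT.G24 M.D) (low : genLt (M.wl c13_l) 1 ≤ cen (M.wl c13_f) 6) : TM.CL (M.wl c13_f) 6 (M.wl c13_l) 1 13 :=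
  M.cl_step c13_hf c13_hl low (c13_c1 M hM) ((w3_inv M).mono (M.cen_le_cen (by decide +kernel))) w3_W c13_0_s c13_0_o c13_0_n (Or.inl le_rfl)

theorem c13 {G : Type*} [Group G] (M : Mod G) (hM : TT.G24 M.D) : TM.CL (M.wl c13_f) 6 (M.wl c13_l) 1 13 :=
  c13_c0 M hM (M.low_of_comm c13_low)

def c13_u : List ℕ := [nat_lit 306951,nat_lit 306940,nat_lit 306945,nat_lit 306941,nat_lit 306942,nat_lit 306950,nat_lit 306939,nat_lit 306951,nat_lit 306945,nat_lit 306944,nat_lit 306940,nat_lit 16797,nat_lit 306939,nat_lit 306938,nat_lit 306941,nat_lit 306937,nat_lit 306936,nat_lit 306938,nat_lit 306937,nat_lit 105841,nat_lit 55997,nat_lit 306946,nat_lit 306944,nat_lit 306937,nat_lit 306936]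

def c13_y : List ℕ := [nat_lit 306950,nat_lit 306946,nat_lit 306951,nat_lit 306945,nat_lit 306950,nat_lit 7217,nat_lit 306943,nat_lit 306937,nat_lit 13076,nat_lit 306939,nat_lit 838,nat_lit 306939,nat_lit 306936,nat_lit 306939,nat_lit 69002,nat_lit 3706,nat_lit 306944,nat_lit 306937,nat_lit 306936,nat_lit 306941]

end Cfsg.Agent.Spor.F24
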