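import Mathlib
import Cfsg.Agent.Spor.F24.Mod
import Cfsg.Agent.Spor.FL.Loc
import Cfsg.Agent.Spor.FL2.Cnt

/-! Generated by tools/fl: fixed points of an element of order 13 -/

set_option autoImplicit false
set_option maxRecDepth 100000
set_option linter.unusedVariables false
set_option exponentiation.threshold 100000
set_option Elab.async false

namespace Cfsg.Agent.Spor.F24

open Cfsg.Agent.Spor Cfsg.Agent.Spor.FL

noncomputable def w13_f : LT :=
(.leaf [nat_lit 306948,nat_lit 306939,nat_lit 306948,nat_lit 306943])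

theorem w13_hf : w13_f.all (lettersLt 306952) = true := by decide +kernel

noncomputable def w13_P : ℕ → ℕ := fun i => Nat.land (Nat.shiftRight (nat_lit 0x2455fbe1682345c386000f79802c2) (Nat.mul (nat_lit 19) i)) (nat_lit 524287)

theorem w13_n_0 : Nat.ble (count2 (nat_lit 20000) fun i => force (Nat.add (nat_lit 0) i) ((fixT (wT X w13_f) (nat_lit 1)))) (nat_lit 2) = true := by decide +kernel

theorem w13_n_1 : Nat.ble (count2 (nat_lit 20000) fun i => force (Nat.add (nat_lit 20000) i) ((fixT (wT X w13_f) (nat_lit 1)))) (nat_lit 0) = true := by decide +kernel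

theorem w13_n_2 : Nat.ble (count2 (nat_lit 20000) fun i => force (Nat.add (nat_lit 40000) i) ((fixT (wT X w13_f) (nat_lit 1)))) (nat_lit 1) = true := by decide +kernel

theorem w13_n_3 : Nat.ble (count2 (nat_lit 20000) fun i => force (Nat.add (nat_lit 60000) i) ((fixT (wT X w13_f) (nat_lit 1)))) (nat_lit 1) = true := by decide +kernel

theorem w13_n_4 : Nat.ble (count2 (nat_lit 20000) fun i => force (Nat.add (nat_lit 80000) i) ((fixT (wT X w13_f) (nat_lit 1)))) (nat_lit 0) = true := by decide +kernel

theorem w13_n_5 : Nat.ble (count2 (nat_lit 20000) fun i => force (Nat.add (nat_lit 100000) i) ((fixT (wT X w13_f) (nat_lit 1)))) (nat_lit 0) = true := by decide +kernel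

theorem w13_n_6 : Nat.ble (count2 (nat_lit 20000) fun i => force (Nat.add (nat_lit 120000) i) ((fixT (wT X w13_f) (nat_lit 1)))) (nat_lit 0) = true := by decide +kernel

theorem w13_n_7 : Nat.ble (count2 (nat_lit 20000) fun i => force (Nat.add (nat_lit 140000) i) ((fixT (wT X w13_f) (nat_lit 1)))) (nat_lit 0) = true := by decide +kernel

theorem w13_n_8 : Nat.ble (count2 (nat_lit 20000) fun i => force (Nat.add (nat_lit 160000) i) ((fixT (wT X w13_f) (nat_lit 1)))) (nat_lit 0) = true := by decide +kernel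

theorem w13_n_9 : Nat.ble (count2 (nat_lit 20000) fun i => force (Nat.add (nat_lit 180000) i) ((fixT (wT X w13_f) (nat_lit 1)))) (nat_lit 0) = true := by decide +kernel

theorem w13_n_10 : Nat.ble (count2 (nat_lit 20000) fun i => force (Nat.add (nat_lit 200000) i) ((fixT (wT X w13_f) (nat_lit 1)))) (nat_lit 0) = true := by decide +kernel

theorem w13_n_11 : Nat.ble (count2 (nat_lit 20000) fun i => force (Nat.add (nat_lit 220000) i) ((fixT (wT X w13_f) (nat_lit 1)))) (nat_lit 0) = true := by decide +kernel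

theorem w13_n_12 : Nat.ble (count2 (nat_lit 20000) fun i => force (Nat.add (nat_lit 240000) i) ((fixT (wT X w13_f) (nat_lit 1)))) (nat_lit 1) = true := by decide +kernel

theorem w13_n_13 : Nat.ble (count2 (nat_lit 20000) fun i => force (Nat.add (nat_lit 260000) i) ((fixT (wT X w13_f) (nat_lit 1)))) (nat_lit 0) = true := by decide +kernel

theorem w13_n_14 : Nat.ble (count2 (nat_lit 20000) fun i => force (Nat.add (nat_lit 280000) i) ((fixT (wT X w13_f) (nat_lit 1)))) (nat_lit 1) = true := by decide +kernel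

theorem w13_n_15 : Nat.ble (count2 (nat_lit 6936) fun i => force (Nat.add (nat_lit 300000) i) ((fixT (wT X w13_f) (nat_lit 1)))) (nat_lit 0) = true := by decide +kernel

theorem w13_n : CntLe ((fixT (wT X w13_f) (nat_lit 1))) 306936 6 := (CntLe.step2 (CntLe.step2 (CntLe.step2 (CntLe.step2 (CntLe.step2 (CntLe.step2 (CntLe.step2 (CntLe.step2 (CntLe.step2 (CntLe.step2 (CntLe.step2 (CntLe.step2 (CntLe.step2 (CntLe.step2 (CntLe.step2 (CntLe.step2 (cntLe_zero' ((fixT (wT X w13_f) (nat_lit 1)))) w13_n_0 (nat_lit 20000) (nat_lit 2) (by decide +kernel)) w13_n_1 (nat_lit 40000) (nat_lit 2) (by decide +kernel)) w13_n_2 (nat_lit 60000) (nat_lit 3) (by decide +kernel)) w13_n_3 (nat_lit 80000) (nat_lit 4) (by decide +kernel)) w13_n_4 (nat_lit 100000) (nat_lit 4) (by decide +kernel)) w13_n_5 (nat_lit 120000) (nat_lit 4) (by decide +kernel)) w13_n_6 (nat_lit 140000) (nat_lit 4) (by decide +kernel)) w13_n_7 (nat_lit 160000) (nat_lit 4) (by decide +kernel)) w13_n_8 (nat_lit 180000) (nat_lit 4) (by decide +kernel)) w13_n_9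 (nat_lit 200000) (nat_lit 4) (by decide +kernel)) w13_n_10 (nat_lit 220000) (nat_lit 4) (by decide +kernel)) w13_n_11 (nat_lit 240000) (nat_lit 4) (by decide +kernel)) w13_n_12 (nat_lit 260000) (nat_lit 5) (by decide +kernel)) w13_n_13 (nat_lit 280000) (nat_lit 5) (by decide +kernel)) w13_n_14 (nat_lit 300000) (nat_lit 6) (by decide +kernel)) w13_n_15 (nat_lit 306936) (nat_lit 6) (by decide +kernel))

theorem w13_p : ∀ i < 6, (fun i => band (incOK w13_P (nat_lit 6) (nat_lit 306936) i) (force (w13_P i) (fixT (wT X w13_f) (nat_lit 1)))) i = true := allRange_zero (len := (nat_lit 6)) (by decide +kernel)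

theorem w13_W : Win 306936 (fixT (wT X w13_f) (nat_lit 1)) 6 w13_P := win_of_count w13_n w13_p

end Cfsg.Agent.Spor.F24
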